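import Cfsg.Agent.TT2.U6Geo

/-!
# The group `PSU₆(2)` through its action on the 693 points
-/

set_option autoImplicit false
set_option maxRecDepth 100000

namespace Cfsg.Agent.TT2

open Cfsg.Agent.M24 Subgroup

/-! ### products of commuting involutions -/

/-- the sublist selected by the bits of `m` -/
noncomputable def sub {α : Type} (L : List α) : ℕ → List α :=
  List.rec (motive := fun _ => ℕ → List α) (fun _ => [])
    (fun a _ ih m => bif' (Nat.beq (Nat.mod m 2) 1) (a :: ih (Nat.div m 2)) (ih (Nat.div m 2))) L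

theorem sub_cons {α : Type} (a : α) (L : List α) (m : ℕ) :
    sub (a :: L) m = if m % 2 = 1 then a :: sub L (m / 2) else sub L (m / 2) := by
  have : sub (a :: L) m = bif' (Nat.beq (Nat.mod m 2) 1) (a :: sub L (Nat.div m 2))
    (sub L (Nat.div m 2)) := rfl
  rw [this, bif'_eq]
  simp only [Nat.beq_eq]
  rfl

theorem mem_of_mem_sub {α : Type} {L : List α} {m : ℕ} {a : α} (h : a ∈ sub L m) : a ∈ L := by
  induction L generalizing m with
  | nil => exact h
  | cons b L ih =>
    rw [sub_cons] at h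
    split_ifs at h
    · rcases List.mem_cons.1 h with rfl | h
      exacts [List.mem_cons_self, List.mem_cons_of_mem _ (ih h)]
    · exact List.mem_cons_of_mem _ (ih h)

theorem sub_zero {α : Type} (L : List α) : sub L 0 = [] := by
  induction L with
  | nil => rfl
  | cons b L ih => rw [sub_cons]; simpa using ih

theorem prod_sub_xor {α : Type} {G : Type*} [Group G] (f : α → G) (L : List α)
    (hc : ∀ a ∈ L, ∀ b ∈ L, Commute (f a) (f b)) (hs : ∀ a ∈ L, f a * f a = 1) (m m' : ℕ) :
    ((sub L (m ^^^ m')).map f).prod = ((sub L m).map f).prod * ((sub L m').map f).prod := by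
  induction L generalizing m m' with
  | nil => simp [sub]
  | cons a L ih =>
    have ih' := ih (fun a ha b hb => hc a (List.mem_cons_of_mem _ ha) b (List.mem_cons_of_mem _ hb))
      (fun a ha => hs a (List.mem_cons_of_mem _ ha)) (m / 2) (m' / 2)
    have hcm : Commute (f a) ((sub L (m / 2)).map f).prod := by
      refine Commute.list_prod_right _ _ fun x hx => ?_
      obtain ⟨b, hb, rfl⟩ := List.mem_map.1 hx
      exact hc a List.mem_cons_self b (List.mem_cons_of_mem _ (mem_of_mem_sub hb))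
    have hsa := hs a List.mem_cons_self
    simp only [sub_cons, Nat.xor_div_two, Nat.xor_mod_two_eq_one]
    by_cases h1 : m % 2 = 1 <;> by_cases h2 : m' % 2 = 1 <;>
      simp only [h1, h2, iff_true, iff_false, not_true, not_false_iff, if_true, if_false,
        List.map_cons, List.prod_cons, ih', iff_self, not_not]
    · rw [hcm.eq, mul_assoc, TT.sq_cancel hsa]
    · rw [mul_assoc]
    · rw [← mul_assoc, hcm.eq, mul_assoc]

theorem prod_sub_flatten {G : Type*} [Group G] (f : P → G) (RL : List (List P))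
    (h : ∀ r ∈ RL, (r.map f).prod = 1) (c : ℕ) : ((sub RL c).flatten.map f).prod = 1 := by
  have : ∀ L : List (List P), (∀ r ∈ L, (r.map f).prod = 1) → (L.flatten.map f).prod = 1 := by
    intro L hL
    induction L with
    | nil => simp
    | cons a L ih =>
      rw [List.flatten_cons, List.map_append, List.prod_append, hL a List.mem_cons_self,
        ih fun r hr => hL r (List.mem_cons_of_mem _ hr), one_mul]
  exact this _ fun r hr => h r (mem_of_mem_sub hr)

/-- the points of the standard plane -/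
def U21 : List P := [0, 1, 2, 3, 4, 5, 6, 7, 8, 9, 10, 11, 12, 13, 14, 15, 16, 17, 18, 19, 20]
/-- a basis of the root group of the standard plane -/
def basL : List P := [0, 1, 2, 3, 5, 6, 7, 9, 13]
def muL : List ℕ := [1, 2, 4, 8, 15, 16, 32, 64, 119, 128, 177, 220, 234, 256, 315, 338, 366, 407, 429, 457, 500]
/-- coordinates of a point of the standard plane -/
noncomputable def mu (k : ℕ) : ℕ := lget muL 0 k
/-- parity vector of a list of points -/
noncomputable def xl (L : List P) : ℕ := L.foldr (fun k s => Nat.xor (Nat.shiftLeft 1 k) s) 0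
/-- coordinates of a product -/
noncomputable def xm (L : List P) : ℕ := L.foldr (fun k s => Nat.xor (mu k) s) 0

theorem lt21_cases {p : P → Prop} (h : ∀ k ∈ U21, p k) {k : P} (hk : (k : ℕ) < 21) : p k := by
  apply h
  obtain ⟨k, hk'⟩ := k
  simp only at hk
  interval_cases k <;> decide +revert

theorem mem_U21 {k : P} : k ∈ U21 ↔ (k : ℕ) < 21 :=
  ⟨fun h => (by decide : ∀ k ∈ U21, (k : ℕ) < 21) k h, lt21_cases fun _ h => h⟩

theorem basL_lt : ∀ k ∈ basL, (k : ℕ) < 21 := by decide

theorem mu_lt (k : ℕ) : mu k < 512 := by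
  rcases lget_mem muL 0 k with h | h
  · exact (by decide : ∀ x ∈ muL, x < 512) _ h
  · rw [mu, h]; norm_num

theorem xm_lt (L : List P) : xm L < 512 := by
  induction L with
  | nil => decide
  | cons a L ih => exact Nat.xor_lt_two_pow (n := 9) (mu_lt _) ih

section
variable {G : Type*} [Group G] {f : P → G}

theorem prod_eq_sub_xl (hc : ∀ i j : P, (i : ℕ) < 21 → (j : ℕ) < 21 → Commute (f i) (f j))
    (hs : ∀ i, f i * f i = 1) {L : List P} (hL : ∀ i ∈ L, (i : ℕ) < 21) :
    (L.map f).prod = ((sub U21 (xl L)).map f).prod := by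
  induction L with
  | nil => simp [xl, sub_zero]
  | cons a L ih =>
    have e : xl (a :: L) = (Nat.shiftLeft 1 a) ^^^ xl L := rfl
    have e2 : ∀ a ∈ U21, sub U21 (Nat.shiftLeft 1 a) = [a] := by decide +kernel
    rw [e, prod_sub_xor f U21 (fun a ha b hb => hc a b (mem_U21.1 ha) (mem_U21.1 hb))
      (fun a _ => hs a), ← ih fun i hi => hL i (List.mem_cons_of_mem _ hi),
      e2 a (mem_U21.2 (hL a List.mem_cons_self))]
    simp

theorem prod_eq_of_xl (hc : ∀ i j : P, (i : ℕ) < 21 → (j : ℕ) < 21 → Commute (f i) (f j))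
    (hs : ∀ i, f i * f i = 1) {L L' : List P} (hL : ∀ i ∈ L, (i : ℕ) < 21)
    (hL' : ∀ i ∈ L', (i : ℕ) < 21) (h : xl L = xl L') : (L.map f).prod = (L'.map f).prod := by
  rw [prod_eq_sub_xl hc hs hL, prod_eq_sub_xl hc hs hL', h]

theorem prod_eq_bas (hc : ∀ i j : P, (i : ℕ) < 21 → (j : ℕ) < 21 → Commute (f i) (f j))
    (hs : ∀ i, f i * f i = 1) (hb : ∀ k : P, (k : ℕ) < 21 → f k = ((sub basL (mu k)).map f).prod)
    {L : List P} (hL : ∀ i ∈ L, (i : ℕ) < 21) :
    (L.map f).prod = ((sub basL (xm L)).map f).prod := by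
  induction L with
  | nil => simp [xm, sub_zero]
  | cons a L ih =>
    have e : xm (a :: L) = mu a ^^^ xm L := rfl
    rw [e, prod_sub_xor f basL (fun a ha b hb => hc a b (basL_lt a ha) (basL_lt b hb))
      (fun a _ => hs a), ← ih fun i hi => hL i (List.mem_cons_of_mem _ hi),
      ← hb a (hL a List.mem_cons_self)]
    simp

theorem exists_list_of_mem_closure (hs : ∀ i, f i * f i = 1) {S : Set P} {g : G}
    (hg : g ∈ closure (f '' S)) : ∃ L : List P, (∀ i ∈ L, i ∈ S) ∧ (L.map f).prod = g := by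
  induction hg using closure_induction with
  | mem x hx => obtain ⟨i, hi, rfl⟩ := hx; exact ⟨[i], by simpa using hi, by simp⟩
  | one => exact ⟨[], by simp, rfl⟩
  | mul x y _ _ hx hy =>
    obtain ⟨L, h1, rfl⟩ := hx
    obtain ⟨L', h2, rfl⟩ := hy
    refine ⟨L ++ L', fun i hi => ?_, by simp⟩
    rcases List.mem_append.1 hi with h | h
    exacts [h1 i h, h2 i h]
  | inv x _ hx =>
    obtain ⟨L, h1, rfl⟩ := hx
    refine ⟨L.reverse, fun i hi => h1 i (List.mem_reverse.1 hi), ?_⟩
    rw [List.prod_inv_reverse, List.map_map, List.map_reverse]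
    congr 2
    exact List.map_congr_left fun i _ => (TT.inv_of_sq (hs i)).symm

theorem prod_mem_closure {S : Set P} {L : List P} (h : ∀ i ∈ L, i ∈ S) :
    (L.map f).prod ∈ closure (f '' S) :=
  list_prod_mem fun x hx => by
    obtain ⟨i, hi, rfl⟩ := List.mem_map.1 hx
    exact subset_closure ⟨i, h i hi, rfl⟩

theorem conj_prod {g : G} {σ : P → P} (h : ∀ i, g * f i * g⁻¹ = f (σ i)) (L : List P) :
    g * (L.map f).prod * g⁻¹ = ((L.map σ).map f).prod := by
  induction L with
  | nil => simp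
  | cons a L ih => simp only [List.map_cons, List.prod_cons, ← ih, ← h]; group

end

def clsTab : ℕ := 0xc61950010015300106214e00000074000000940100158d0106216f01401d8f0100212d0000003400000014000000140106154f0147992f00869d4d0000005401060d6e00000130000000f20106114f0100018d0000018d000000d30100058d0000016e0106016e0100118d000000b40000014f01000d8d0106054f00000111000001500107856d0107816d0000016d00c6095000000112000000b30107896d000000f10147892f004a898e000000d40107916d0000012f0000018e004a818e0140218f01061d6f000000530107956d000000330100198d00000013000000130106196e0000009300ca217001001d900106194f0147952f0000007301001d2d0107092e00000113000000b20140098f0000012e0107012e00868d4d0000018f000000d100ca09700086894d000000f40086854d000001700000014d0086814d000000320106196f00000012000000120107a16d01001d8d000000520140158f01061d6e004aa18e000000720100199001061d4f000000920086954d0100192d000000710106156f0100218d01079d6d0107192e0106154e01002130000000910000001100000011000000310106214f0000005101479d2f0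086994d0100152d0100112d0000016f000000d20106056f0106014e0000014e000000f301000d2d000000b101060d6f0106114e00000190000001140100052d0100012d0000012d00868d0d000000b00000019100ca04b0000000ee010700ee010704ee000001530000010d0086810d0086850d000001340086890d000000cf00000172014004cf00000010000000100107a96d00000030010714ee00000050010635cf010004500086950d0000007001479d0f01402d8f0106254f014014cf0000009000c018ed0140048f0147886f0000008f0107a56d0100298d0000006f0140088f0147846f0086990d0000004f01400c8f0106044f0000000f0000000f004aa58e0000002f00c010ed000000d00147010e0000010e0000017100c00caf0000013300c00ced0000019200c008af0000015400c008ed0147110e000000af00c000ed000000ed0000004e0106004e0106044e01070c8e0000000e0000000e0000002e0147002e00869d0d01002d8d0107008e0000008e0000006e004a806e0086a54d010794cd010790cd000000f00000013200c604f0000000ae004a80ae004a84ae000001740147850f000001510000010f010788cd00000193010784cd010780cd000000cd00c010ad0000019400c010ef00000152000000ce014700ce0000011000c00cad0000013100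c008ef0000017300c008ad01470cce000000ef00c000ad000000ad0000008d0086808d0086848d0107886d0086888d0107846d0107806d0000006d00868c8d0100044d0100004d0000004d00c0002d0000002d0000000d0000000d000001f200c610ea010780cb000000cb004a80ac000000ac0000021101479109000001090147810901478509000001b401478909000001d3000000ea00c600ea0100004c0000004c0106254b010794cb0000000c0000000c0146002c0000002c014795090086990a0000008c0140008c004a806c0000006c00c614ea010718e90146802b0000002b0000000b0000000b00ca0c8b0106044b0106004b0000004b014799090086950a0107806b0000006b0000008b00ca008b00c618ea010714e9000001d400868d0a00ca00ab000000ab014000cc000000cc000001b301070ce90086810a0000010a000001f1010708e900000212010704e9010700e9000000e90086808a0000008a00c6086a0086848a00c6046a0086888a0000006a00c6006a01479d0900868c8a0000004a0106004a0000002a0146002a0000000a0000000a004110c9004110aa000001b2000001d10000010b000000ec00410caa00410cc900000213000001f4004108aa004108c9004104aa004104c9000000aa000000c9004110a9004110ca0000010c000000eb000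001f30000021400410cca00410ca9000001b1000001d2004108ca004108a9004104ca004104a9000000ca000000a9000000890107008901070489014788690107088901478469014780690000006901070c890100044901000049000000490146802900000029000000090000000900000068014780680147846800868888014788680086848800868088000000880000000800000008000000280147002800000048000a8048000a8448010694c7010690c7000001b00000014b0106014b0100012c0000012c000001cf01068cc7000000a8000a80a8000a84a80000025300000234010684c7010680c7000000c700c010a7000002330146812b0000012b0000014c0146014c0000025400c00ca7000000c8014700c8000001d000c008a7014708c8000001af00c000a7000000a700000087010700870107048700c608670107088700c6046700c600670000006701070c87010a0447010a00470000004700c00027000000270000000700000007004110a60041112a00000274000001f0000001ae0000023200410d2a00410ca6000000e80000016c010a84e8004108a6010a88e8004104a60000012a000000a6000000860140008601400486010788660140088601078466010780660000006601400c86010a0446010a004600000046014700260000002600000006000000060000008500ca008500ca0485004a886500ca0885004a8465004a80650000006500ca0c85000a8445000a80450000004500c0002500000025000000050000000500000004000000040000002400000043000000440000002300000003000000030000006400000022000000020000000200000001000000010000000000000000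

theorem cls {m : ℕ} (hm : m < 512) : m = 0 ∨ (∃ i : P, (i : ℕ) < 21 ∧ xm [i] = m) ∨
    (∃ i j : P, (i : ℕ) < 21 ∧ (j : ℕ) < 21 ∧ i ≠ j ∧ xm [i, j] = m) ∨
    ∃ i j k : P, (i : ℕ) < 21 ∧ (j : ℕ) < 21 ∧ (k : ℕ) < 21 ∧ Tri i j k ∧ xm [i, j, k] = m := by
  have : ball (fun m => force (Nat.mod (Nat.shiftRight clsTab (Nat.mul 32 m)) 4294967296) fun e =>
    force (Nat.mod e 32) fun i => force (Nat.mod (Nat.shiftRight e 5) 32) fun j =>
    force (Nat.mod (Nat.shiftRight e 10) 32) fun k => force (Nat.shiftRight e 15) fun r =>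
    band (Nat.blt i 21) (band (Nat.blt j 21) (band (Nat.blt k 21) (band (Nat.blt r 693)
    (bor (Nat.beq m 0) (bor (Nat.beq (Nat.xor (mu i) 0) m)
      (band (!Nat.beq i j) (bor (Nat.beq (Nat.xor (mu i) (Nat.xor (mu j) 0)) m)
        (band (Nat.beq (Nat.xor (mu i) (Nat.xor (mu j) (Nat.xor (mu k) 0))) m)
          (band (pp i r) (band (pp j r) (!pp k r)))))))))))) 9 0 = true := by decide +kernel
  have h := ball_zero this m hm
  simp only [force_eq, band_eq, bor_eq, Bool.and_eq_true, Bool.or_eq_true, Nat.blt_eq, Nat.beq_eq,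
    Bool.not_eq_true'] at h
  generalize Nat.mod (Nat.shiftRight clsTab (Nat.mul 32 m)) 4294967296 = e at h
  generalize Nat.mod e 32 = i at h
  generalize Nat.mod (Nat.shiftRight e 5) 32 = j at h
  generalize Nat.mod (Nat.shiftRight e 10) 32 = k at h
  generalize Nat.shiftRight e 15 = r at h
  obtain ⟨hi, hj, hk, hr, h⟩ := h
  let i' : P := ⟨i, by omega⟩
  let j' : P := ⟨j, by omega⟩
  let k' : P := ⟨k, by omega⟩
  rcases h with h | h | ⟨hne, h⟩
  · exact Or.inl h
  · exact Or.inr (Or.inl ⟨i', hi, h⟩)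
  have hne' : i' ≠ j' := fun h => by
    have : i = j := congrArg Fin.val h
    simp [this] at hne
  rcases h with h | ⟨h, h1, h2, h3⟩
  · exact Or.inr (Or.inr (Or.inl ⟨i', j', hi, hj, hne', h⟩))
  · refine Or.inr (Or.inr (Or.inr ⟨i', j', k', hi, hj, hk, ⟨perp_of_lt hi hj, perp_of_lt hi hk,
      perp_of_lt hj hk, hne', fun hc => ?_⟩, h⟩))
    have := (pp_iff k' ⟨r, hr⟩).2 (hc ⟨r, hr⟩ ((pp_iff i' _).1 h1) ((pp_iff j' _).1 h2))
    rw [show pp k' (⟨r, hr⟩ : P) = pp k r from rfl, h3] at this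
    exact absurd this (by simp)

/-! ### the action on points -/

theorem card_eq_orbit_mul {X : Type*} [Group X] (a : X →* Equiv.Perm P) (H : Subgroup X) (x : P) :
    Nat.card H = {y | ∃ g ∈ H, a g x = y}.ncard *
      Nat.card ↥(H ⊓ (MulAction.stabilizer (Equiv.Perm P) x).comap a) := by
  let _ : MulAction H P := MulAction.compHom P (a.comp H.subtype)
  have h1 := MulAction.index_stabilizer H x
  have h2 : MulAction.orbit H x = {y | ∃ g ∈ H, a g x = y} := by
    ext y
    exact ⟨fun ⟨g, hg⟩ => ⟨g.1, g.2, hg⟩, fun ⟨g, h, hg⟩ => ⟨⟨g, h⟩, hg⟩⟩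
  have h3 : MulAction.stabilizer H x =
      (H ⊓ (MulAction.stabilizer (Equiv.Perm P) x).comap a).subgroupOf H := by
    ext g
    simp only [mem_subgroupOf, mem_inf, g.2, true_and]
    rfl
  rw [← h2, ← h1, ← Nat.card_congr (subgroupOfEquivOfLe (inf_le_left :
    H ⊓ (MulAction.stabilizer (Equiv.Perm P) x).comap a ≤ H)).toEquiv, ← h3, mul_comm,
    card_mul_index]

theorem card_sup_zpowers {G : Type*} [Group G] [Finite G] {H : Subgroup G} {g : G} (hg : g * g = 1)
    (hn : ∀ h ∈ H, g * h * g⁻¹ ∈ H) (hgH : g ∉ H) :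
    (∀ x, x ∈ H ⊔ zpowers g ↔ x ∈ H ∨ x * g ∈ H) ∧ Nat.card ↥(H ⊔ zpowers g) = 2 * Nat.card H := by
  have hi := TT.inv_of_sq hg
  rw [hi] at hn
  let K : Subgroup G :=
    { carrier := {x | x ∈ H ∨ x * g ∈ H}
      one_mem' := Or.inl (one_mem _)
      mul_mem' := by
        rintro a b (ha | ha) (hb | hb)
        · exact Or.inl (mul_mem ha hb)
        · exact Or.inr (by rw [mul_assoc]; exact mul_mem ha hb)
        · refine Or.inr ?_
          have := mul_mem ha (hn b hb)
          rwa [← mul_assoc, ← mul_assoc, mul_assoc a, hg, mul_one] at this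
        · refine Or.inl ?_
          have := mul_mem ha (hn _ hb)
          rwa [← mul_assoc, ← mul_assoc, mul_assoc a, hg, mul_one, ← mul_assoc, mul_assoc _ g, hg,
            mul_one] at this
      inv_mem' := by
        rintro a (ha | ha)
        · exact Or.inl (inv_mem ha)
        · refine Or.inr ?_
          have := hn _ (inv_mem ha)
          rwa [mul_inv_rev, hi, ← mul_assoc, hg, one_mul] at this }
  have hK : H ⊔ zpowers g = K := by
    refine le_antisymm (sup_le (fun x hx => Or.inl hx) (zpowers_le.2 (Or.inr ?_))) ?_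
    · rw [hg]; exact one_mem _
    · rintro x (hx | hx)
      · exact mem_sup_left hx
      · have := mul_mem (mem_sup_left hx : x * g ∈ H ⊔ zpowers g) (mem_sup_right (mem_zpowers g))
        rwa [mul_assoc, hg, mul_one] at this
  refine ⟨fun x => by rw [hK]; rfl, ?_⟩
  have hidx : (H.subgroupOf K).index = 2 := by
    rw [index_eq_two_iff]
    refine ⟨⟨g, Or.inr (by rw [hg]; exact one_mem _)⟩, fun b => ?_⟩
    simp only [mem_subgroupOf, coe_mul]
    by_cases hb : (b : G) ∈ H
    · exact Or.inr ⟨hb, fun h => hgH ((mul_mem_cancel_left hb).1 h)⟩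
    · exact Or.inl ⟨b.2.resolve_left hb, hb⟩
  rw [hK, ← card_mul_index (H.subgroupOf K), hidx, mul_comm,
    Nat.card_congr (subgroupOfEquivOfLe (fun x hx => Or.inl hx : H ≤ K)).toEquiv]

section U6
variable {X : Type*} [Group X] {t : P → X}

theorem U6.finite (U : U6 t) : Finite X := Nat.finite_of_card_ne_zero (by rw [U.card]; norm_num)

theorem U6.exists_aut (U : U6 t) (g : X) : ∃ σ ∈ TG Set.univ, ∀ j, g * t j * g⁻¹ = t (σ j) := by
  obtain ⟨L, -, rfl⟩ := exists_list_of_mem_closure U.sq (S := Set.univ) (g := g)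
    (by rw [Set.image_univ, U.gen]; trivial)
  exact ⟨wp L, wp_mem fun _ _ => trivial, fun j => by rw [wp_apply, U.conj_word]⟩

/-- the action on the points -/
noncomputable def U6.act (U : U6 t) : X →* Equiv.Perm P :=
  MonoidHom.mk' (fun g => (U.exists_aut g).choose) fun a b => by
    ext1 j
    apply U.inj
    rw [← (U.exists_aut (a * b)).choose_spec.2, Equiv.Perm.mul_apply,
      ← (U.exists_aut a).choose_spec.2, ← (U.exists_aut b).choose_spec.2]
    group

theorem U6.act_spec (U : U6 t) (g : X) (j : P) : g * t j * g⁻¹ = t (U.act g j) :=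
  (U.exists_aut g).choose_spec.2 j

theorem U6.act_mem_TG (U : U6 t) (g : X) : U.act g ∈ TG Set.univ := (U.exists_aut g).choose_spec.1

theorem U6.act_mem (U : U6 t) (g : X) : U.act g ∈ Aut := TG_le_Aut _ (U.act_mem_TG g)

theorem U6.act_t (U : U6 t) (i j : P) : U.act (t i) j = op i j :=
  U.inj (by rw [← U.act_spec, U.conj'])

theorem U6.act_word (U : U6 t) (w : List P) (j : P) : U.act (w.map t).prod j = wact w j :=
  U.inj (by rw [← U.act_spec, U.conj_word])

theorem U6.act_eq_iff (U : U6 t) {g : X} {j : P} : U.act g j = j ↔ Commute g (t j) := by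
  rw [TT.commute_iff_conj, U.act_spec, U.inj.eq_iff]

theorem U6.exists_act (U : U6 t) {S : Set P} {σ : Equiv.Perm P} (h : σ ∈ TG S) :
    ∃ g ∈ closure (t '' S), U.act g = σ := by
  obtain ⟨g, hg, h⟩ := U.lift h
  exact ⟨g, hg, Equiv.ext fun j => U.inj (by rw [← U.act_spec, h])⟩

theorem U6.eq_one (U : U6 t) {g : X} (h : ∀ i ∈ gensL, U.act g i = i) : g = 1 := by
  have h1 : ∀ i, U.act g i = i := gens_closed (S := {i | U.act g i = i}) (fun a ha b hb => by
    change U.act g (op a b) = _
    rw [U.act_mem g, ha, hb]) h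
  rw [← mem_bot, ← U.center]
  refine TT.mem_center_of_commute U.gen ?_
  rintro _ ⟨j, rfl⟩
  exact (U.act_eq_iff.1 (h1 j)).symm

theorem U6.word_eq_one (U : U6 t) {w : List P} (h : ∀ i ∈ gensL, wact w i = i) :
    (w.map t).prod = 1 :=
  U.eq_one fun i hi => by rw [U.act_word, h i hi]

theorem U6.word_ne_one (U : U6 t) {w : List P} {j : P} (h : wact w j ≠ j) : (w.map t).prod ≠ 1 :=
  fun e => h (by rw [← U.act_word, e, map_one]; rfl)

theorem U6.comm21 (U : U6 t) (i j : P) (hi : (i : ℕ) < 21) (hj : (j : ℕ) < 21) :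
    Commute (t i) (t j) := U.commute (perp_of_lt hi hj)

theorem U6.eq_bas (U : U6 t) (k : P) (hk : (k : ℕ) < 21) :
    t k = ((sub basL (mu k)).map t).prod := by
  have : ∀ k ∈ U21, ∀ i ∈ gensL, wact (k :: sub basL (mu k)) i = i := by decide +kernel
  have h := U.word_eq_one (lt21_cases this hk)
  rw [List.map_cons, List.prod_cons, mul_eq_one_iff_inv_eq, U.inv] at h
  exact h

theorem U6.bas_eq_one (U : U6 t) {m : ℕ} (hm : m < 512) (h : ((sub basL m).map t).prod = 1) :
    m = 0 := by
  have : ball (fun m => bor (Nat.beq m 0) (lany [137, 582, 64, 261, 120, 507] fun i =>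
    !Nat.beq (wact (sub basL m) (Fin.ofNat 693 i)) i)) 9 0 = true := by decide +kernel
  have h1 := ball_zero this m hm
  simp only [bor_eq, Bool.or_eq_true, Nat.beq_eq, lany_iff] at h1
  refine h1.resolve_right ?_
  rintro ⟨i, hi, h2⟩
  rw [← U.act_word, h, map_one] at h2
  have : i < 693 := (by decide : ∀ x ∈ [137, 582, 64, 261, 120, 507], x < 693) i hi
  simp [Fin.ofNat, Nat.mod_eq_of_lt this] at h2

theorem U6.prod_eq (U : U6 t) {L : List P} (hL : ∀ i ∈ L, (i : ℕ) < 21) :
    (L.map t).prod = ((sub basL (xm L)).map t).prod :=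
  prod_eq_bas U.comm21 U.sq U.eq_bas hL

theorem U6.bas_xor (U : U6 t) (m m' : ℕ) : ((sub basL (m ^^^ m')).map t).prod =
    ((sub basL m).map t).prod * ((sub basL m').map t).prod :=
  prod_sub_xor t basL (fun a ha b hb => U.comm21 a b (basL_lt a ha) (basL_lt b hb))
    (fun a _ => U.sq a) m m'

theorem U6.bas_inj (U : U6 t) {m m' : ℕ} (hm : m < 512) (hm' : m' < 512)
    (h : ((sub basL m).map t).prod = ((sub basL m').map t).prod) : m = m' := by
  refine Nat.xor_eq_zero_iff.1 (U.bas_eq_one (Nat.xor_lt_two_pow (n := 9) hm hm') ?_)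
  rw [U.bas_xor, h, ← U.bas_xor, Nat.xor_self, sub_zero]; rfl

theorem U6.prod_eq_iff (U : U6 t) {L L' : List P} (hL : ∀ i ∈ L, (i : ℕ) < 21)
    (hL' : ∀ i ∈ L', (i : ℕ) < 21) : (L.map t).prod = (L'.map t).prod ↔ xm L = xm L' := by
  rw [U.prod_eq hL, U.prod_eq hL']
  exact ⟨U.bas_inj (xm_lt _) (xm_lt _), fun h => by rw [h]⟩

/-- the root group of the standard plane -/
def Apl {G : Type*} [Group G] (f : P → G) : Subgroup G := closure (f '' {k | (k : ℕ) < 21})

theorem U6.mem_Apl (U : U6 t) {g : X} :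
    g ∈ Apl t ↔ ∃ m < 512, ((sub basL m).map t).prod = g := by
  constructor
  · intro h
    obtain ⟨L, hL, rfl⟩ := exists_list_of_mem_closure U.sq h
    exact ⟨_, xm_lt L, (U.prod_eq hL).symm⟩
  · rintro ⟨m, -, rfl⟩
    exact prod_mem_closure fun i hi => basL_lt i (mem_of_mem_sub hi)

theorem U6.card_Apl (U : U6 t) : Nat.card (Apl t) = 512 := by
  rw [← Nat.card_fin 512]
  refine (Nat.card_eq_of_bijective (fun m : Fin 512 => (⟨_, U.mem_Apl.2 ⟨m, m.2, rfl⟩⟩ : Apl t))
    ⟨fun a b h => Fin.ext (U.bas_inj a.2 b.2 (congrArg Subtype.val h)), fun g => ?_⟩).symm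
  obtain ⟨m, hm, h⟩ := U.mem_Apl.1 g.2
  exact ⟨⟨m, hm⟩, Subtype.ext h⟩

theorem U6.cases_Apl (U : U6 t) {g : X} (hg : g ∈ Apl t) : g = 1 ∨ (∃ i : P, (i : ℕ) < 21 ∧ g = t i) ∨
    (∃ i j : P, (i : ℕ) < 21 ∧ (j : ℕ) < 21 ∧ i ≠ j ∧ g = t i * t j) ∨
    ∃ i j k : P, (i : ℕ) < 21 ∧ (j : ℕ) < 21 ∧ (k : ℕ) < 21 ∧ Tri i j k ∧
      g = t i * (t j * t k) := by
  obtain ⟨m, hm, rfl⟩ := U.mem_Apl.1 hg
  rcases cls hm with rfl | ⟨i, hi, rfl⟩ | ⟨i, j, hi, hj, hne, rfl⟩ | ⟨i, j, k, hi, hj, hk, hT, rfl⟩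
  · left; rw [sub_zero]; rfl
  · refine Or.inr (Or.inl ⟨i, hi, ?_⟩)
    rw [← U.prod_eq (by simpa using hi)]; simp
  · refine Or.inr (Or.inr (Or.inl ⟨i, j, hi, hj, hne, ?_⟩))
    rw [← U.prod_eq (by simp [hi, hj])]; simp
  · refine Or.inr (Or.inr (Or.inr ⟨i, j, k, hi, hj, hk, hT, ?_⟩))
    rw [← U.prod_eq (by simp [hi, hj, hk])]; simp

theorem U6.act_Apl (U : U6 t) {g : X} (hg : g ∈ Apl t) {k : P} (hk : (k : ℕ) < 21) :
    U.act g k = k := by
  rw [U.act_eq_iff]
  induction hg using closure_induction with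
  | mem x hx => obtain ⟨i, hi, rfl⟩ := hx; exact U.comm21 i k hi hk
  | one => exact Commute.one_left _
  | mul x y _ _ hx hy => exact hx.mul_left hy
  | inv x _ hx => exact hx.inv_left

theorem conj_Apl {G : Type*} [Group G] {f : P → G} {g : G} {σ : P → P}
    (h : ∀ i, g * f i * g⁻¹ = f (σ i)) (hσ : ∀ k : P, (k : ℕ) < 21 → (σ k : ℕ) < 21) {a : G}
    (ha : a ∈ Apl f) : g * a * g⁻¹ ∈ Apl f := by
  induction ha using closure_induction with
  | mem x hx => obtain ⟨i, hi, rfl⟩ := hx; exact subset_closure ⟨σ i, hσ i hi, (h i).symm⟩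
  | one => simp
  | mul x y _ _ hx hy =>
    have := mul_mem hx hy
    rwa [show g * x * g⁻¹ * (g * y * g⁻¹) = g * (x * y) * g⁻¹ by group] at this
  | inv x _ hx =>
    have := inv_mem hx
    rwa [show (g * x * g⁻¹)⁻¹ = g * x⁻¹ * g⁻¹ by group] at this

theorem Aut.lt21 {σ : Equiv.Perm P} (hσ : σ ∈ Aut) {i j k : P} (hi : (i : ℕ) < 21)
    (hj : (j : ℕ) < 21) (hk : (k : ℕ) < 21) (h0 : σ i = 0) (h1 : σ j = 1) (h5 : σ k = 5) {x : P}
    (hx : (x : ℕ) < 21) : (σ x : ℕ) < 21 :=
  TT2.lt21 (h0 ▸ Aut.perp hσ (perp_of_lt hi hx)) (h1 ▸ Aut.perp hσ (perp_of_lt hj hx))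
    (h5 ▸ Aut.perp hσ (perp_of_lt hk hx))

/-- point stabiliser -/
noncomputable abbrev U6.St (U : U6 t) (x : P) : Subgroup X := (MulAction.stabilizer (Equiv.Perm P) x).comap U.act

theorem U6.mem_St (U : U6 t) {x : P} {g : X} : g ∈ U.St x ↔ U.act g x = x := Iff.rfl

theorem U6.card_St3 (U : U6 t) : Nat.card ↥(⊤ ⊓ U.St 0 ⊓ U.St 1 ⊓ U.St 5) = 1536 := by
  have h0 := card_eq_orbit_mul U.act ⊤ 0
  have h1 := card_eq_orbit_mul U.act (⊤ ⊓ U.St 0) 1
  have h2 := card_eq_orbit_mul U.act (⊤ ⊓ U.St 0 ⊓ U.St 1) 5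
  have e0 : {y | ∃ g ∈ (⊤ : Subgroup X), U.act g 0 = y} = Set.univ := by
    refine Set.eq_univ_of_forall fun y => ?_
    obtain ⟨σ, hσ, rfl⟩ := trans0 y
    obtain ⟨g, -, rfl⟩ := U.exists_act hσ
    exact ⟨g, trivial, rfl⟩
  have e1 : {y | ∃ g ∈ ⊤ ⊓ U.St 0, U.act g 1 = y} = {y | perp 0 y} \ {0} := by
    ext y
    constructor
    · rintro ⟨g, ⟨-, hg⟩, rfl⟩
      have hg : U.act g 0 = 0 := hg
      refine ⟨?_, fun h => ?_⟩
      · have := Aut.perp (U.act_mem g) (i := 0) (j := 1) (by decide +kernel)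
        rwa [hg] at this
      · exact absurd ((U.act g).injective (h.trans hg.symm)) (by decide)
    · rintro ⟨h1, h2⟩
      obtain ⟨σ, hσ, rfl⟩ := trans1 h1 h2
      obtain ⟨g, -, rfl⟩ := U.exists_act hσ
      exact ⟨g, ⟨trivial, TG_fix hσ fun i hi => perp.symm hi⟩, rfl⟩
  have e2 : {y | ∃ g ∈ ⊤ ⊓ U.St 0 ⊓ U.St 1, U.act g 5 = y} =
      {k : P | perp 0 k ∧ perp 1 k ∧ 5 ≤ (k : ℕ)} := by
    ext y
    constructor
    · rintro ⟨g, ⟨⟨-, hg0⟩, hg1⟩, rfl⟩
      have hg0 : U.act g 0 = 0 := hg0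
      have hg1 : U.act g 1 = 1 := hg1
      refine ⟨?_, ?_, ?_⟩
      · have := Aut.perp (U.act_mem g) (i := 0) (j := 5) (by decide +kernel)
        rwa [hg0] at this
      · have := Aut.perp (U.act_mem g) (i := 1) (j := 5) (by decide +kernel)
        rwa [hg1] at this
      · have := Aut.col_iff (U.act_mem g) (i := 0) (j := 1) (k := 5)
        rw [hg0, hg1, col01, col01] at this
        by_contra h
        exact absurd (this.1 (by omega)) (by decide)
    · rintro ⟨h1, h2, h3⟩
      obtain ⟨σ, hσ, rfl⟩ := trans2 h1 h2 h3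
      obtain ⟨g, -, rfl⟩ := U.exists_act hσ
      exact ⟨g, ⟨⟨trivial, TG_fix hσ fun i hi => perp.symm hi.1⟩,
        TG_fix hσ fun i hi => perp.symm hi.2⟩, rfl⟩
  rw [e0, Set.ncard_univ, card_top, U.card, Nat.card_fin] at h0
  rw [e1, Set.ncard_sdiff_singleton_of_mem (s := {y | perp 0 y}) (perp_refl 0), ncard_perp] at h1
  rw [e2, ncard_perp01] at h2
  change _ = _ * Nat.card ↥(⊤ ⊓ U.St 0) at h0
  change _ = _ * Nat.card ↥(⊤ ⊓ U.St 0 ⊓ U.St 1) at h1
  change _ = _ * Nat.card ↥(⊤ ⊓ U.St 0 ⊓ U.St 1 ⊓ U.St 5) at h2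
  omega

theorem U6.Apl_le_St3 (U : U6 t) : Apl t ≤ ⊤ ⊓ U.St 0 ⊓ U.St 1 ⊓ U.St 5 := fun _ hg =>
  ⟨⟨⟨trivial, U.act_Apl hg (by decide)⟩, U.act_Apl hg (by decide)⟩, U.act_Apl hg (by decide)⟩

theorem U6.mem_Apl_of_fix (U : U6 t) {g : X} (hg : g * g = 1) (h0 : U.act g 0 = 0)
    (h1 : U.act g 1 = 1) (h5 : U.act g 5 = 5) : g ∈ Apl t := by
  have := U.finite
  by_contra hn
  have h := (card_sup_zpowers hg (fun a ha => conj_Apl (U.act_spec g) (fun k hk =>
    Aut.lt21 (U.act_mem g) (by decide) (by decide) (by decide) h0 h1 h5 hk) ha) hn).2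
  have hle : Apl t ⊔ zpowers g ≤ ⊤ ⊓ U.St 0 ⊓ U.St 1 ⊓ U.St 5 :=
    sup_le U.Apl_le_St3 (zpowers_le.2 ⟨⟨⟨trivial, h0⟩, h1⟩, h5⟩)
  have := card_dvd_of_le hle
  rw [h, U.card_Apl, U.card_St3] at this
  norm_num at this

theorem U6.mem_Apl_of_tri (U : U6 t) {g : X} (hg : g * g = 1) {i j k : P} (hi : (i : ℕ) < 21)
    (hj : (j : ℕ) < 21) (hk : (k : ℕ) < 21) (hT : Tri i j k) (h0 : U.act g i = i)
    (h1 : U.act g j = j) (h5 : U.act g k = k) : g ∈ Apl t := by
  obtain ⟨σ, hσ, rfl, rfl, rfl⟩ := tri_trans hT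
  obtain ⟨x, -, rfl⟩ := U.exists_act hσ
  have h := U.mem_Apl_of_fix (g := x⁻¹ * g * x⁻¹⁻¹) (TT.conj_mul_self _ hg)
    (by simp [h0]) (by simp [h1]) (by simp [h5])
  have hx : ∀ y : P, (y : ℕ) < 21 → (U.act x y : ℕ) < 21 := by
    have h1 : ∀ y : P, (y : ℕ) < 21 → ((U.act x)⁻¹ y : ℕ) < 21 := fun y hy =>
      Aut.lt21 (inv_mem (U.act_mem x)) hi hj hk (by simp) (by simp) (by simp) hy
    intro y hy
    have hs := Set.eq_of_subset_of_ncard_le (s := ⇑(U.act x)⁻¹ '' {k : P | (k : ℕ) < 21})
      (t := {k : P | (k : ℕ) < 21}) (by rintro _ ⟨y, hy, rfl⟩; exact h1 y hy)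
      (by rw [Set.ncard_image_of_injective _ (U.act x)⁻¹.injective])
    obtain ⟨y', hy', e⟩ : y ∈ ⇑(U.act x)⁻¹ '' {k : P | (k : ℕ) < 21} := hs.symm ▸ hy
    rw [← e]; simpa using hy'
  have := conj_Apl (U.act_spec x) hx h
  rwa [show x * (x⁻¹ * g * x⁻¹⁻¹) * x⁻¹ = g by group] at this

theorem U6.cent_gen0 (U : U6 t) {g : X} (h : U.act g 0 = 0) : g ∈ closure (t '' {j | perp 0 j}) := by
  have := U.finite
  set T := closure (t '' {j | perp 0 j}) with hT
  set K := ⊤ ⊓ U.St 0 ⊓ U.St 1 ⊓ U.St 5 with hK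
  have hKT : K ≤ T := by
    have hA : Apl t ≤ T ⊓ K := le_inf (closure_mono (Set.image_mono fun k hk =>
      perp_of_lt (by decide) hk)) U.Apl_le_St3
    have h1 := card_dvd_of_le hA
    have h2 := card_dvd_of_le (inf_le_right : T ⊓ K ≤ K)
    have hw : (([680, 492, 544, 359] : List P).map t).prod ∈ T ⊓ K :=
      ⟨prod_mem_closure (S := {j | perp 0 j}) (show ∀ i ∈ _, perp 0 i by decide +kernel),
        ⟨⟨trivial, U.mem_St.2 (by rw [U.act_word]; decide +kernel)⟩,
        U.mem_St.2 (by rw [U.act_word]; decide +kernel)⟩,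
        U.mem_St.2 (by rw [U.act_word]; decide +kernel)⟩
    have h3 : Nat.card ↥(T ⊓ K) ≠ 512 := fun h3 => by
      rw [← eq_of_le_of_card_ge hA (by rw [h3, U.card_Apl])] at hw
      have := U.act_Apl hw (k := 8) (by decide)
      rw [U.act_word] at this
      exact absurd this (by decide +kernel)
    rw [U.card_Apl] at h1
    rw [U.card_St3] at h2
    obtain ⟨c, hc⟩ := h1
    rw [hc] at h2 h3
    have h4 : c ∣ 3 := Nat.dvd_of_mul_dvd_mul_left (by norm_num : 0 < 512) h2
    have h5 : c = 3 := by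
      rcases (Nat.dvd_prime Nat.prime_three).1 h4 with rfl | rfl
      · exact absurd rfl h3
      · rfl
    rw [← eq_of_le_of_card_ge (inf_le_right : T ⊓ K ≤ K) (by rw [hc, h5, U.card_St3])]
    exact inf_le_left
  obtain ⟨σ, hσ, e1⟩ := trans1 (i := U.act g 1)
    (by have := Aut.perp (U.act_mem g) (i := 0) (j := 1) (by decide +kernel); rwa [h] at this)
    (fun e => absurd ((U.act g).injective (e.trans h.symm)) (by decide))
  obtain ⟨x, hx, rfl⟩ := U.exists_act hσ
  have hx0 : U.act x 0 = 0 := TG_fix hσ fun i hi => perp.symm hi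
  have a0 : U.act (x⁻¹ * g) 0 = 0 := by simp [h, Equiv.symm_apply_eq, hx0]
  have a1 : U.act (x⁻¹ * g) 1 = 1 := by simp [← e1]
  obtain ⟨σ', hσ', e2⟩ := trans2 (i := U.act (x⁻¹ * g) 5)
    (by have := Aut.perp (U.act_mem (x⁻¹ * g)) (i := 0) (j := 5) (by decide +kernel)
        rwa [a0] at this)
    (by have := Aut.perp (U.act_mem (x⁻¹ * g)) (i := 1) (j := 5) (by decide +kernel)
        rwa [a1] at this)
    (by have := Aut.col_iff (U.act_mem (x⁻¹ * g)) (i := 0) (j := 1) (k := 5)
        rw [a0, a1, col01, col01] at this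
        by_contra h
        exact absurd (this.1 (by omega)) (by decide))
  obtain ⟨y, hy, rfl⟩ := U.exists_act hσ'
  have hy0 : U.act y 0 = 0 := TG_fix hσ' fun i hi => perp.symm hi.1
  have hy1 : U.act y 1 = 1 := TG_fix hσ' fun i hi => perp.symm hi.2
  have hm : y⁻¹ * (x⁻¹ * g) ∈ K := by
    refine ⟨⟨⟨trivial, U.mem_St.2 ?_⟩, U.mem_St.2 ?_⟩, U.mem_St.2 ?_⟩ <;> rw [map_mul, map_inv,
      Equiv.Perm.mul_apply, Equiv.Perm.inv_eq_iff_eq]
    · rw [a0, hy0]
    · rw [a1, hy1]
    · rw [e2]
  have hyT : y ∈ T := closure_mono (Set.image_mono fun k hk => hk.1) hy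
  have := mul_mem hx (mul_mem hyT (hKT hm))
  simpa using this

theorem U6.cent_gen (U : U6 t) {g : X} {i : P} (h : U.act g i = i) :
    g ∈ closure (t '' {j | perp i j}) := by
  obtain ⟨σ, hσ, rfl⟩ := trans0 i
  obtain ⟨x, -, rfl⟩ := U.exists_act hσ
  obtain ⟨L, hL, e⟩ := exists_list_of_mem_closure U.sq
    (U.cent_gen0 (g := x⁻¹ * g * x) (by simp [h]))
  have : g = x * (L.map t).prod * x⁻¹ := by rw [e]; group
  rw [this, conj_prod (U.act_spec x)]
  refine prod_mem_closure fun j hj => ?_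
  obtain ⟨j, hj', rfl⟩ := List.mem_map.1 hj
  exact Aut.perp (U.act_mem x) (hL j hj')

theorem U6.exists_conj_Apl (U : U6 t) {g : X} (hg : g * g = 1) : ∃ x, x * g * x⁻¹ ∈ Apl t := by
  obtain ⟨Y, h1, h2⟩ := U.invol g hg
  obtain ⟨σ, hσ, h3⟩ := clique h1
  obtain ⟨x, -, rfl⟩ := U.exists_act hσ
  have : ∀ k : P, (k : ℕ) < 21 → U.act (x * g * x⁻¹) k = k := by
    intro k hk
    obtain ⟨k, rfl⟩ := (U.act x).surjective k
    have := U.act_eq_iff.2 (h2 k fun i hi =>
      (Aut.perp_iff (U.act_mem x)).1 (perp_of_lt (h3 i hi) hk))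
    simp [this]
  exact ⟨x, U.mem_Apl_of_fix (TT.conj_mul_self _ hg) (this _ (by decide)) (this _ (by decide))
    (this _ (by decide))⟩

theorem U6.mul_ne (U : U6 t) {i j : P} (hp : perp i j) (hne : i ≠ j) (k : P) :
    t i * t j ≠ t k := by
  intro h
  have hi : perp i k := U.commute_iff.1 (h ▸ (Commute.refl _).mul_right (U.commute hp))
  have hj : perp j k := U.commute_iff.1 (h ▸ (U.commute hp.symm).mul_right (Commute.refl _))
  obtain ⟨σ, hσ, h0, h1, h2⟩ := clique_pair (Y := {i, j, k}) (by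
    simp [perp_refl, hp, hi, hj, hp.symm, hi.symm, hj.symm]) (by simp) (by simp) hne
  obtain ⟨x, -, rfl⟩ := U.exists_act hσ
  have e : t 0 * t 1 = t (U.act x k) := by
    rw [← h0, ← h1, ← U.act_spec, ← U.act_spec, ← U.act_spec, ← h]; group
  have hk := h2 k (by simp)
  generalize U.act x k = k at e hk
  have := (U.prod_eq_iff (L := [0, 1]) (L' := [k]) (by decide) (by simpa using hk)).1 (by simpa using e)
  exact lt21_cases (p := fun k => xm [0, 1] ≠ xm [k]) (by decide +kernel) hk this

theorem U6.mul_eq_mul (U : U6 t) {i j k l : P} (hp : perp i j) (hne : i ≠ j) (hi : perp i k)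
    (hj : perp j k) (h : t i * t j = t k * t l) : (k = i ∧ l = j) ∨ (k = j ∧ l = i) := by
  have hl : t l = t k * (t i * t j) := by rw [h, TT.sq_cancel (U.sq k)]
  have hil : perp i l := U.commute_iff.1 (hl ▸ (U.commute hi).mul_right
    ((Commute.refl _).mul_right (U.commute hp)))
  have hjl : perp j l := U.commute_iff.1 (hl ▸ (U.commute hj).mul_right
    ((U.commute hp.symm).mul_right (Commute.refl _)))
  have hkl : perp k l := U.commute_iff.1 (hl ▸ (Commute.refl _).mul_right
    ((U.commute hi.symm).mul_right (U.commute hj.symm)))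
  obtain ⟨σ, hσ, h0, h1, h2⟩ := clique_pair (Y := {i, j, k, l}) (by
    simp [perp_refl, hp, hi, hj, hp.symm, hi.symm, hj.symm, hil, hjl, hkl, hil.symm, hjl.symm,
      hkl.symm]) (by simp) (by simp) hne
  obtain ⟨x, -, rfl⟩ := U.exists_act hσ
  have e : t 0 * t 1 = t (U.act x k) * t (U.act x l) := by
    rw [← h0, ← h1, ← U.act_spec, ← U.act_spec, ← U.act_spec, ← U.act_spec]
    calc _ = x * (t i * t j) * x⁻¹ := by group
      _ = _ := by rw [h]; group
  have hk := h2 k (by simp)
  have hl := h2 l (by simp)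
  rw [← (U.act x).injective.eq_iff, ← (U.act x).injective.eq_iff (a := l),
    ← (U.act x).injective.eq_iff (a := k), ← (U.act x).injective.eq_iff (a := l) (b := i), h0, h1]
  generalize U.act x k = k at e hk
  generalize U.act x l = l at e hl
  have := (U.prod_eq_iff (L := [0, 1]) (L' := [k, l]) (by decide) (by simp [hk, hl])).1
    (by simpa using e)
  exact (by decide +kernel : ∀ k ∈ U21, ∀ l ∈ U21, xm [0, 1] = xm [k, l] →
    (k = 0 ∧ l = 1) ∨ (k = 1 ∧ l = 0)) k (mem_U21.2 hk) l (mem_U21.2 hl) this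

theorem U6.line_prod (U : U6 t) : (([0, 1, 2, 3, 4] : List P).map t).prod = 1 :=
  U.word_eq_one (by decide +kernel)

theorem U6.big_order (U : U6 t) (L : List P) (hL : L = [0, 1] ∨ L = [0, 1, 5]) : ∃ x : X,
    ((L.map t).prod * (x * (L.map t).prod * x⁻¹)) ^ 2 ≠ 1 ∧
    ((L.map t).prod * (x * (L.map t).prod * x⁻¹)) ^ 3 ≠ 1 := by
  refine ⟨(([637, 261] : List P).map t).prod, ?_⟩
  rw [conj_prod (U.conj_word _), ← List.prod_append, ← List.map_append, pow_three, pow_two,
    ← List.prod_append, ← List.map_append, ← List.prod_append, ← List.map_append]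
  rcases hL with rfl | rfl
  · exact ⟨U.word_ne_one (j := 137) (by decide +kernel), U.word_ne_one (j := 137) (by decide +kernel)⟩
  · exact ⟨U.word_ne_one (j := 137) (by decide +kernel), U.word_ne_one (j := 137) (by decide +kernel)⟩

end U6

end Cfsg.Agent.TT2
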